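import Groth.Agent.GrpdSliceSp.SFEpi
import Groth.Agent.GrpdDense.Basic

/-!
# A flat slice presents the ringed-space quotient of its saturation
-/

set_option autoImplicit false
set_option backward.isDefEq.respectTransparency false

universe u

open CategoryTheory CategoryTheory.Limits AlgebraicGeometry

namespace Groth.Agent.GrpdSliceSp

open Groth.Agent.GrpdLib

variable {S : Scheme.{u}} (G : Grpd.GroupoidScheme S) {Z : Scheme.{u}} (ι : Z ⟶ G.U)

/-- the arrows between points of the slice -/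
noncomputable abbrev RZ : Scheme.{u} :=
  pullback (pullback.map (ι ≫ G.pU) (ι ≫ G.pU) G.pU G.pU ι ι (𝟙 S) (Category.comp_id _)
    (Category.comp_id _)) G.j

/-- target -/
noncomputable abbrev tZ : RZ G ι ⟶ Z :=
  pullback.fst (pullback.map (ι ≫ G.pU) (ι ≫ G.pU) G.pU G.pU ι ι (𝟙 S) (Category.comp_id _)
    (Category.comp_id _)) G.j ≫ pullback.fst (ι ≫ G.pU) (ι ≫ G.pU)

/-- source -/
noncomputable abbrev sZ : RZ G ι ⟶ Z :=
  pullback.fst (pullback.map (ι ≫ G.pU) (ι ≫ G.pU) G.pU G.pU ι ι (𝟙 S) (Category.comp_id _)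
    (Category.comp_id _)) G.j ≫ pullback.snd (ι ≫ G.pU) (ι ≫ G.pU)

/-- the arrow -/
noncomputable abbrev aZ : RZ G ι ⟶ G.R :=
  pullback.snd (pullback.map (ι ≫ G.pU) (ι ≫ G.pU) G.pU G.pU ι ι (𝟙 S) (Category.comp_id _)
    (Category.comp_id _)) G.j

lemma aZ_t : aZ G ι ≫ G.t = tZ G ι ≫ ι := by
  have hj : G.j ≫ pullback.fst G.pU G.pU = G.t := pullback.lift_fst _ _ _
  rw [← hj, ← Category.assoc, ← pullback.condition]
  simp only [Category.assoc, pullback.lift_fst]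

lemma aZ_s : aZ G ι ≫ G.s = sZ G ι ≫ ι := by
  have hj : G.j ≫ pullback.snd G.pU G.pU = G.s := pullback.lift_snd _ _ _
  rw [← hj, ← Category.assoc, ← pullback.condition]
  simp only [Category.assoc, pullback.lift_snd]

lemma sf_comp_eq {T X Y : Scheme.{u}} {N : SheafedSpace CommRingCat.{u}} {a b : X ⟶ Y}
    {f : Pinch.SF.obj Y ⟶ N} (h : Pinch.SF.map a ≫ f = Pinch.SF.map b ≫ f) (l : T ⟶ X) :
    Pinch.SF.map (l ≫ a) ≫ f = Pinch.SF.map (l ≫ b) ≫ f := by
  rw [Functor.map_comp, Functor.map_comp, Category.assoc, Category.assoc, h]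

lemma sf_comp_of_eq {T X Y : Scheme.{u}} {N : SheafedSpace CommRingCat.{u}} (l : T ⟶ X) (c : X ⟶ Y)
    {h : Pinch.SF.obj Y ⟶ N} {F : Pinch.SF.obj X ⟶ N} (hh : Pinch.SF.map c ≫ h = F) :
    Pinch.SF.map (l ≫ c) ≫ h = Pinch.SF.map l ≫ F := by
  rw [Functor.map_comp, Category.assoc, hh]

lemma exists_mk {T : Scheme.{u}} (r : T ⟶ G.R) (x y : T ⟶ Z) (hx : r ≫ G.t = x ≫ ι)
    (hy : r ≫ G.s = y ≫ ι) : ∃ m : T ⟶ RZ G ι, m ≫ tZ G ι = x ∧ m ≫ sZ G ι = y := by
  have hxy : x ≫ ι ≫ G.pU = y ≫ ι ≫ G.pU := by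
    rw [← reassoc_of% hx, ← reassoc_of% hy, G.t_over, G.s_over]
  refine ⟨pullback.lift (pullback.lift x y hxy) r ?_, ?_, ?_⟩
  · apply pullback.hom_ext
    · simp [Grpd.GroupoidScheme.j, hx]
    · simp [Grpd.GroupoidScheme.j, hy]
  · simp
  · simp

variable (V : G.U.Opens) (hsat : G.s ⁻¹ᵁ V = G.t ⁻¹ᵁ V)

lemma tV_ι : ((G.R.isoOfEq hsat).hom ≫ (G.t ∣_ V)) ≫ V.ι = (G.s ⁻¹ᵁ V).ι ≫ G.t := by
  rw [Category.assoc, morphismRestrict_ι, Scheme.isoOfEq_hom_ι_assoc]

theorem exists_quotient_data [Mono ι] (ιV : Z ⟶ (V : Scheme.{u})) (hιV : ιV ≫ V.ι = ι)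
    (c : pullback G.t ι ⟶ (V : Scheme.{u})) (hc : c ≫ V.ι = pullback.fst G.t ι ≫ G.s)
    [Flat c] [Surjective c] [LocallyOfFinitePresentation c] :
    (∃ (wR : Pinch.SF.map (tZ G ι) ≫ (Pinch.SF.map ιV ≫ coequalizer.π (Pinch.SF.map (G.s ∣_ V))
        (Pinch.SF.map ((G.R.isoOfEq hsat).hom ≫ (G.t ∣_ V)))) =
        Pinch.SF.map (sZ G ι) ≫ (Pinch.SF.map ιV ≫ coequalizer.π (Pinch.SF.map (G.s ∣_ V))
        (Pinch.SF.map ((G.R.isoOfEq hsat).hom ≫ (G.t ∣_ V))))),
      Nonempty (IsColimit (Cofork.ofπ (Pinch.SF.map ιV ≫ coequalizer.π (Pinch.SF.map (G.s ∣_ V))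
        (Pinch.SF.map ((G.R.isoOfEq hsat).hom ≫ (G.t ∣_ V)))) wR))) ∧
    (∀ (T : Scheme.{u}) (v : T ⟶ G.U), Set.range ⇑v ⊆ (V : Set ↥G.U) →
       ∃ (T' : Scheme.{u}) (d : T' ⟶ T) (r : T' ⟶ G.R) (z : T' ⟶ Z),
         Flat d ∧ LocallyOfFinitePresentation d ∧ Surjective d ∧ r ≫ G.t = d ≫ v ∧ z ≫ ι = r ≫ G.s) := by
  let sV : (G.s ⁻¹ᵁ V).toScheme ⟶ V.toScheme := G.s ∣_ V
  let tV : (G.s ⁻¹ᵁ V).toScheme ⟶ V.toScheme := (G.R.isoOfEq hsat).hom ≫ (G.t ∣_ V)
  let P := pullback G.t ι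
  let pr : P ⟶ Z := pullback.snd G.t ι
  let ar : P ⟶ G.R := pullback.fst G.t ι
  have hsV : sV ≫ V.ι = (G.s ⁻¹ᵁ V).ι ≫ G.s := morphismRestrict_ι _ _
  have htV : tV ≫ V.ι = (G.s ⁻¹ᵁ V).ι ≫ G.t := tV_ι G V hsat
  let π := coequalizer.π (Pinch.SF.map sV) (Pinch.SF.map tV)
  have hπ : Pinch.SF.map sV ≫ π = Pinch.SF.map tV ≫ π := coequalizer.condition _ _
  -- lifting arrows into the open
  have hlift : ∀ {T : Scheme.{u}} (r : T ⟶ G.R) (x y : T ⟶ V.toScheme),
      r ≫ G.t = x ≫ V.ι → r ≫ G.s = y ≫ V.ι → ∃ l, l ≫ tV = x ∧ l ≫ sV = y := by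
    intro T r x y hx hy
    have hr : Set.range r ⊆ Set.range (G.s ⁻¹ᵁ V).ι := by
      rintro _ ⟨a, rfl⟩
      rw [Scheme.Opens.range_ι]
      show (r ≫ G.s) a ∈ V
      rw [hy]
      exact (y a).2
    refine ⟨IsOpenImmersion.lift (G.s ⁻¹ᵁ V).ι r hr, ?_, ?_⟩
    · rw [← cancel_mono V.ι, Category.assoc, htV, IsOpenImmersion.lift_fac_assoc, hx]
    · rw [← cancel_mono V.ι, Category.assoc, hsV, IsOpenImmersion.lift_fac_assoc, hy]
  have wR : Pinch.SF.map (tZ G ι) ≫ (Pinch.SF.map ιV ≫ π) = Pinch.SF.map (sZ G ι) ≫ (Pinch.SF.map ιV ≫ π) := by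
    obtain ⟨l, hl₁, hl₂⟩ := hlift (aZ G ι) (tZ G ι ≫ ιV) (sZ G ι ≫ ιV)
      (by rw [aZ_t]; simp only [Category.assoc, hιV]) (by rw [aZ_s]; simp only [Category.assoc, hιV])
    rw [← Category.assoc, ← Category.assoc (Pinch.SF.map (sZ G ι)), ← Functor.map_comp,
      ← Functor.map_comp, ← hl₁, ← hl₂]
    exact (sf_comp_eq hπ l).symm
  obtain ⟨lP, hlP₁, hlP₂⟩ := hlift ar (pr ≫ ιV) c
    (by rw [Category.assoc, hιV]; exact pullback.condition) hc.symm
  have hcπ : Pinch.SF.map c ≫ π = Pinch.SF.map pr ≫ Pinch.SF.map ιV ≫ π := by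
    rw [← Category.assoc (Pinch.SF.map pr), ← Functor.map_comp, ← hlP₁, ← hlP₂]
    exact sf_comp_eq hπ lP
  have key : ∀ s : Cofork (Pinch.SF.map (tZ G ι)) (Pinch.SF.map (sZ G ι)),
      ∃ g, (Pinch.SF.map ιV ≫ π) ≫ g = s.π := by
    intro s
    let F := Pinch.SF.map pr ≫ s.π
    have hF : Pinch.SF.map (pullback.fst c c) ≫ F = Pinch.SF.map (pullback.snd c c) ≫ F := by
      let a₁ := pullback.fst c c ≫ ar
      let a₂ := pullback.snd c c ≫ ar
      have e : a₁ ≫ G.s = (a₂ ≫ G.i) ≫ G.t := by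
        rw [Category.assoc a₂, G.i_t, Category.assoc, Category.assoc]
        have := congrArg (· ≫ V.ι) (pullback.condition (f := c) (g := c))
        simp only [Category.assoc, hc] at this
        exact this
      obtain ⟨m, hm₁, hm₂⟩ := exists_mk G ι (gmul G a₁ (a₂ ≫ G.i) e) (pullback.fst c c ≫ pr)
        (pullback.snd c c ≫ pr)
        (by rw [gmul_t]; simp only [a₁, ar, pr, Category.assoc, pullback.condition])
        (by rw [gmul_s]; simp only [a₂, ar, pr, Category.assoc, G.i_s, pullback.condition])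
      simp only [F]
      rw [← Category.assoc, ← Category.assoc (Pinch.SF.map (pullback.snd c c)), ← Functor.map_comp,
        ← Functor.map_comp, ← hm₁, ← hm₂]
      exact sf_comp_eq s.condition m
    obtain ⟨h, hh⟩ := exists_sf_desc c F hF
    have hinv : Pinch.SF.map sV ≫ h = Pinch.SF.map tV ≫ h := by
      let q := pullback.fst c tV
      let w := pullback.snd c tV
      refine sf_hom_ext w ?_
      let a := q ≫ ar
      let b := w ≫ (G.s ⁻¹ᵁ V).ι
      have e : a ≫ G.s = b ≫ G.t := by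
        have := congrArg (· ≫ V.ι) (pullback.condition (f := c) (g := tV))
        simp only [Category.assoc, hc, htV] at this
        simpa [a, b, q, w, ar] using this
      let l : pullback c tV ⟶ P := pullback.lift (gmul G a b e) (q ≫ pr)
        (by rw [gmul_t]; simp only [a, ar, pr, Category.assoc, pullback.condition])
      have hlc : l ≫ c = w ≫ sV := by
        rw [← cancel_mono V.ι, Category.assoc, hc, Category.assoc, hsV, ← Category.assoc,
          pullback.lift_fst, gmul_s, Category.assoc]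
      have hqc : q ≫ c = w ≫ tV := pullback.condition
      rw [← Category.assoc, ← Category.assoc (Pinch.SF.map w), ← Functor.map_comp, ← Functor.map_comp,
        ← hlc, ← hqc, sf_comp_of_eq l c hh, sf_comp_of_eq q c hh]
      simp only [F]
      rw [← Category.assoc, ← Category.assoc (Pinch.SF.map q), ← Functor.map_comp, ← Functor.map_comp]
      rw [show l ≫ pr = q ≫ pr from pullback.lift_snd _ _ _]
    refine ⟨coequalizer.desc h hinv, ?_⟩
    rw [Category.assoc, coequalizer.π_desc]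
    let e₀ : Z ⟶ P := pullback.lift (ι ≫ G.e) (𝟙 Z) (by simp [G.e_t])
    have he₀ : e₀ ≫ c = ιV := by
      rw [← cancel_mono V.ι, Category.assoc, hc, hιV, ← Category.assoc, pullback.lift_fst,
        Category.assoc, G.e_s, Category.comp_id]
    rw [← he₀, sf_comp_of_eq e₀ c hh]
    simp only [F]
    rw [← Category.assoc, ← Functor.map_comp, show e₀ ≫ pr = 𝟙 Z from pullback.lift_snd _ _ _,
      CategoryTheory.Functor.map_id, Category.id_comp]
  refine ⟨⟨wR, ⟨Cofork.IsColimit.mk _ (fun s => (key s).choose) (fun s => (key s).choose_spec)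
    fun s m hm => ?_⟩⟩, fun T v hv => ?_⟩
  · have h1 : (Pinch.SF.map ιV ≫ π) ≫ m = (Pinch.SF.map ιV ≫ π) ≫ (key s).choose :=
      hm.trans (key s).choose_spec.symm
    refine coequalizer.hom_ext (sf_hom_ext c ?_)
    rw [← Category.assoc, ← Category.assoc]
    show (Pinch.SF.map c ≫ π) ≫ m = (Pinch.SF.map c ≫ π) ≫ (key s).choose
    rw [hcπ, Category.assoc, Category.assoc]
    exact congrArg (Pinch.SF.map pr ≫ ·) h1
  · let vV : T ⟶ V.toScheme := IsOpenImmersion.lift V.ι v (by rw [Scheme.Opens.range_ι]; exact hv)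
    let q := pullback.fst c vV
    let d := pullback.snd c vV
    refine ⟨_, d, (q ≫ ar) ≫ G.i, q ≫ pr, inferInstance, inferInstance, inferInstance, ?_, ?_⟩
    · rw [Category.assoc, G.i_t, Category.assoc]
      have := congrArg (· ≫ V.ι) (pullback.condition (f := c) (g := vV))
      simp only [Category.assoc, hc, vV, IsOpenImmersion.lift_fac] at this
      exact this
    · simp only [Category.assoc, G.i_s, ar, pr, pullback.condition]

end Groth.Agent.GrpdSliceSp
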