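import Groth.Agent.QSlice.Main
import Groth.Agent.GrpdDense.Basic
import Groth.Agent.S0386
import Groth.Agent.S2336

/-!
# A flat slice through a point closed in its fibre
-/

set_option autoImplicit false
set_option backward.isDefEq.respectTransparency false

universe u

open CategoryTheory CategoryTheory.Limits AlgebraicGeometry

namespace Groth.Agent.GrpdSliceSp

open Groth.Agent.GrpdLib

theorem stalkMap_flat_iff_exists {X Y : Scheme.{u}} (f : X ⟶ Y) [LocallyOfFinitePresentation f] (x : X) :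
    (f.stalkMap x).hom.Flat ↔ ∃ O : X.Opens, x ∈ O ∧ Flat (O.ι ≫ f) := by
  have hι : ∀ (O : X.Opens) (y : O.toScheme),
      ((O.ι ≫ f).stalkMap y).hom.Flat ↔ (f.stalkMap y.1).hom.Flat := by
    intro O y
    rw [Scheme.Hom.stalkMap_comp, CommRingCat.hom_comp]
    exact RingHom.Flat.respectsIso.cancel_right_isIso (f.stalkMap (O.ι y)) (O.ι.stalkMap y)
  refine ⟨fun h => ⟨⟨_, Groth.Agent.S0386.result f⟩, h, Flat.of_stalkMap _ fun y => (hι _ y).2 y.2⟩, ?_⟩
  rintro ⟨O, hx, hO⟩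
  exact (hι O ⟨x, hx⟩).1 (Flat.stalkMap (O.ι ≫ f) ⟨x, hx⟩)

variable {S : Scheme.{u}} (G : Grpd.GroupoidScheme S) {F : Scheme.{u}} (g : F ⟶ G.U)

/-- pairs of arrows with the same target in the slice are the source squares -/
theorem exists_shear_square :
    ∃ (b : pullback (pullback.snd G.t g) (pullback.snd G.t g) ⟶ G.R),
      IsPullback (pullback.fst (pullback.snd G.t g) (pullback.snd G.t g)) b (QSec.cov G g) G.t ∧
      b ≫ G.s = pullback.snd (pullback.snd G.t g) (pullback.snd G.t g) ≫ QSec.cov G g := by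
  let pr : pullback G.t g ⟶ F := pullback.snd G.t g
  let ar : pullback G.t g ⟶ G.R := pullback.fst G.t g
  let a₁ := pullback.fst pr pr ≫ ar
  let a₂ := pullback.snd pr pr ≫ ar
  have htt : a₁ ≫ G.t = a₂ ≫ G.t := by
    simp only [a₁, a₂, ar, Category.assoc, pullback.condition]
    exact congrArg (· ≫ g) (pullback.condition (f := pr) (g := pr)) |> fun h => by simpa [pr] using h
  let b := gmul G (a₁ ≫ G.i) a₂ (by rw [Category.assoc, G.i_s, htt])
  have hbt : b ≫ G.t = pullback.fst pr pr ≫ QSec.cov G g := by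
    simp only [b, gmul_t, Category.assoc, G.i_t, a₁, ar, QSec.cov]
  have hbs : b ≫ G.s = pullback.snd pr pr ≫ QSec.cov G g := by
    simp only [b, gmul_s, Category.assoc, a₂, ar, QSec.cov]
  refine ⟨b, ?_, hbs⟩
  let p := pullback.fst (QSec.cov G g) G.t
  let q := pullback.snd (QSec.cov G g) G.t
  have e : (p ≫ ar) ≫ G.s = q ≫ G.t := by
    rw [Category.assoc]; exact pullback.condition (f := QSec.cov G g) (g := G.t)
  let p' : pullback (QSec.cov G g) G.t ⟶ pullback G.t g :=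
    pullback.lift (gmul G (p ≫ ar) q e) (p ≫ pr)
      (by simp only [gmul_t, ar, pr, Category.assoc, pullback.condition])
  have hp' : p ≫ pr = p' ≫ pr := (pullback.lift_snd _ _ _).symm
  let σ : pullback (QSec.cov G g) G.t ⟶ pullback pr pr := pullback.lift p p' hp'
  have hσb : σ ≫ b = q := by
    simp only [b, comp_gmul]
    rw [gmul_congr G (show σ ≫ a₁ ≫ G.i = (p ≫ ar) ≫ G.i by simp [σ, a₁])
      (show σ ≫ a₂ = gmul G (p ≫ ar) q e by simp [σ, a₂, p', ar])]
    exact inv_gmul G (p ≫ ar) q e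
  let τ : pullback pr pr ⟶ pullback (QSec.cov G g) G.t := pullback.lift (pullback.fst pr pr) b hbt.symm
  have hστ : σ ≫ τ = 𝟙 _ := by
    apply pullback.hom_ext
    · simp [σ, τ, p]
    · simp [τ, hσb, q]
  have hτσ : τ ≫ σ = 𝟙 _ := by
    apply pullback.hom_ext
    · simp [σ, τ, p]
    · apply pullback.hom_ext
      · simp only [σ, p', Category.assoc, pullback.lift_snd, pullback.lift_fst, Category.id_comp,
          comp_gmul]
        rw [gmul_congr G (show τ ≫ p ≫ ar = a₁ by simp [τ, p, a₁]) (show τ ≫ q = b by simp [τ, q])]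
        exact gmul_inv G a₁ a₂ htt
      · simp only [σ, τ, p', p, Category.assoc, pullback.lift_snd, pullback.lift_fst_assoc,
          Category.id_comp]
        exact pullback.condition (f := pr) (g := pr)
  exact IsPullback.of_iso_pullback ⟨hbt.symm⟩ ⟨τ, σ, hτσ, hστ⟩ (pullback.lift_fst _ _ _)
    (pullback.lift_snd _ _ _)

/-- the flat locus of the arrows into the slice comes from an open of the slice -/
theorem exists_flat_open [Flat G.s] [LocallyOfFinitePresentation G.s] [Flat G.t]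
    [LocallyOfFinitePresentation G.t] [LocallyOfFinitePresentation (QSec.cov G g)] :
    ∃ O : F.Opens, ∀ p : ↥(pullback G.t g),
      pullback.snd G.t g p ∈ O ↔ ((QSec.cov G g).stalkMap p).hom.Flat := by
  let c := QSec.cov G g
  let pr : pullback G.t g ⟶ F := pullback.snd G.t g
  haveI : Flat pr := MorphismProperty.pullback_snd (P := @Flat) _ _ inferInstance
  haveI : LocallyOfFinitePresentation pr :=
    MorphismProperty.pullback_snd (P := @LocallyOfFinitePresentation) _ _ inferInstance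
  let L : (pullback G.t g).Opens := ⟨_, Groth.Agent.S0386.result c⟩
  refine ⟨⟨pr '' (L : Set _), pr.isOpenMap _ L.2⟩, fun p => ⟨?_, fun h => ⟨p, h, rfl⟩⟩⟩
  rintro ⟨p₀, hp₀, he⟩
  obtain ⟨O, hO, hOflat⟩ := (stalkMap_flat_iff_exists c p₀).1 hp₀
  obtain ⟨b, hpb, hbs⟩ := exists_shear_square G g
  let O' := pullback.fst pr pr ⁻¹ᵁ O
  haveI : Flat (pullback.snd pr pr) := MorphismProperty.pullback_snd (P := @Flat) _ _ inferInstance
  haveI : LocallyOfFinitePresentation (pullback.snd pr pr) :=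
    MorphismProperty.pullback_snd (P := @LocallyOfFinitePresentation) _ _ inferInstance
  haveI : Flat (O'.ι ≫ b) := by
    haveI := hOflat
    exact MorphismProperty.of_isPullback (P := @Flat)
      ((isPullback_morphismRestrict (pullback.fst pr pr) O).paste_vert hpb) hOflat
  haveI : Flat (O'.ι ≫ pullback.snd pr pr ≫ c) := by
    rw [← hbs, ← Category.assoc]; infer_instance
  let T : (pullback G.t g).Opens := ⟨pullback.snd pr pr '' (O' : Set _), (pullback.snd pr pr).isOpenMap _ O'.2⟩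
  let β : O'.toScheme ⟶ T.toScheme := (pullback.snd pr pr).resLE T O' (fun y hy => ⟨y, hy, rfl⟩)
  haveI : Flat β := inferInstanceAs (Flat ((pullback.snd pr pr).resLE T O' _))
  haveI : Surjective β :=
    ⟨fun ⟨_, y, hy, rfl⟩ => ⟨⟨y, hy⟩, Subtype.ext (Scheme.Hom.coe_resLE_apply ..)⟩⟩
  haveI : Flat (β ≫ T.ι ≫ c) := by
    rw [← Category.assoc, Scheme.Hom.resLE_comp_ι, Category.assoc]; infer_instance
  refine (stalkMap_flat_iff_exists c p).2 ⟨T, ?_, flat_of_flat_comp β (T.ι ≫ c)⟩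
  obtain ⟨y, hy₁, hy₂⟩ := Scheme.Pullback.exists_preimage_pullback (f := pr) (g := pr) p₀ p he
  exact ⟨y, show pullback.fst pr pr y ∈ O from hy₁.symm ▸ hO, hy₂⟩

/-- a flat slice through a point closed in its fibre, for a quasi-separated space of objects -/
theorem exists_flat_slice [LocallyOfFiniteType G.pU] [QuasiSeparatedSpace G.U]
    [Flat G.s] [LocallyOfFinitePresentation G.s] [QuasiCompact G.s] [QuasiSeparated G.s]
    [Flat G.t] [LocallyOfFinitePresentation G.t] (x : G.U)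
    (hx : ∀ x' : G.U, x' ∈ closure ({x} : Set G.U) → G.pU x' = G.pU x → x' = x) :
    ∃ (Z : Scheme.{u}) (g : Z ⟶ G.U), IsAffine Z ∧ IsImmersion g ∧ LocallyOfFinitePresentation g ∧
      Flat (QSec.cov G g) ∧ LocallyOfFinitePresentation (QSec.cov G g) ∧ QuasiCompact (QSec.cov G g) ∧
      QuasiSeparated (QSec.cov G g) ∧ x ∈ Set.range (QSec.cov G g) ∧
      {z : Z | ∃ r : G.R, G.s r = x ∧ G.t r = g z}.Finite := by
  obtain ⟨U₀, hU₀, hxU₀, -⟩ :=
    exists_isAffineOpen_mem_and_subset (X := G.U) (x := x) (U := ⊤) trivial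
  haveI : IsAffine U₀.toScheme := hU₀
  let Y := G.t ⁻¹ᵁ U₀
  haveI : QuasiCompact Y.ι :=
    MorphismProperty.of_isPullback (isPullback_morphismRestrict G.t U₀) (inferInstance : QuasiCompact U₀.ι)
  let v : Y.toScheme ⟶ G.U := Y.ι ≫ G.s
  let q : Y.toScheme ⟶ U₀.toScheme := G.t ∣_ U₀
  haveI : Flat v := inferInstanceAs (Flat (Y.ι ≫ G.s))
  haveI : LocallyOfFinitePresentation v := inferInstanceAs (LocallyOfFinitePresentation (Y.ι ≫ G.s))
  haveI : QuasiCompact v := inferInstanceAs (QuasiCompact (Y.ι ≫ G.s))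
  obtain ⟨F, i, hi, hlfp, hfin, ⟨_, ⟨y₀, ⟨⟨f₀, hf₀⟩, hy₀⟩, -⟩⟩, hflat⟩ :=
    QSlice.exists_slice (U₀.ι ≫ G.pU) G.pU v q
      (show (G.t ∣_ U₀) ≫ U₀.ι ≫ G.pU = (Y.ι ≫ G.s) ≫ G.pU by
        rw [morphismRestrict_ι_assoc, Category.assoc, G.t_over, G.s_over])
      ((Groth.Agent.S2336.result U₀.toScheme).1 inferInstance) x hx
      ⟨⟨G.e x, show (G.e ≫ G.t) x ∈ U₀ by rw [G.e_t]; exact hxU₀⟩,
        show (G.e ≫ G.s) x = x by rw [G.e_s]; rfl⟩
      (fun y _ => Flat.stalkMap v y)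
  haveI := hi
  haveI := hlfp
  haveI : IsAffine F := isAffine_of_isAffineHom i
  let iU : F ⟶ G.U := i ≫ U₀.ι
  haveI : LocallyOfFinitePresentation (QSec.cov G iU) :=
    inferInstanceAs (LocallyOfFinitePresentation (pullback.fst G.t iU ≫ G.s))
  obtain ⟨O, hO⟩ := exists_flat_open G iU
  have hψ : IsPullback (pullback.snd i q ≫ Y.ι) (pullback.fst i q) G.t iU :=
    (IsPullback.of_hasPullback i q).flip.paste_horiz (isPullback_morphismRestrict G.t U₀).flip
  let ψ := hψ.isoPullback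
  have hψc : ψ.hom ≫ QSec.cov G iU = pullback.snd i q ≫ v := by
    simp only [QSec.cov, ψ, IsPullback.isoPullback_hom_fst_assoc, v, Category.assoc]
  have hf₀O : f₀ ∈ O := by
    obtain ⟨y', hy'₁, hy'₂⟩ := Scheme.Pullback.exists_preimage_pullback (f := i) (g := q) f₀ y₀ hf₀
    have h1 := hflat y' (hy'₂.symm ▸ hy₀)
    have h2 : pullback.snd G.t iU (ψ.hom y') = f₀ := by
      rw [← Scheme.Hom.comp_apply, hψ.isoPullback_hom_snd, hy'₁]
    rw [← h2, hO]
    rw [← hψc, Scheme.Hom.stalkMap_comp, CommRingCat.hom_comp] at h1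
    exact (RingHom.Flat.respectsIso.cancel_right_isIso _ (ψ.hom.stalkMap y')).1 h1
  obtain ⟨Z₂, hZ₂, hf₀Z, hZle⟩ := exists_isAffineOpen_mem_and_subset (X := F) (x := f₀) (U := O) hf₀O
  haveI : IsAffine Z₂.toScheme := hZ₂
  let g₂ : Z₂.toScheme ⟶ G.U := Z₂.ι ≫ iU
  haveI : IsImmersion g₂ := inferInstanceAs (IsImmersion (Z₂.ι ≫ i ≫ U₀.ι))
  haveI : LocallyOfFinitePresentation g₂ :=
    inferInstanceAs (LocallyOfFinitePresentation (Z₂.ι ≫ i ≫ U₀.ι))
  haveI : QuasiCompact g₂ := quasiCompact_of_compactSpace g₂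
  let κ : pullback G.t g₂ ⟶ pullback G.t iU :=
    pullback.map _ _ _ _ (𝟙 _) Z₂.ι (𝟙 _) (by simp) (by simp [g₂])
  have hκ : κ ≫ QSec.cov G iU = QSec.cov G g₂ := by
    show κ ≫ pullback.fst G.t iU ≫ G.s = pullback.fst G.t g₂ ≫ G.s
    simp [κ]
  haveI : IsOpenImmersion κ := Scheme.pullback_map_isOpenImmersion ..
  refine ⟨Z₂.toScheme, g₂, inferInstance, inferInstance, inferInstance, ?_,
    inferInstanceAs (LocallyOfFinitePresentation (pullback.fst G.t g₂ ≫ G.s)),
    inferInstanceAs (QuasiCompact (pullback.fst G.t g₂ ≫ G.s)),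
    inferInstanceAs (QuasiSeparated (pullback.fst G.t g₂ ≫ G.s)), ?_, ?_⟩
  · refine Flat.of_stalkMap _ fun p => ?_
    rw [← hκ, Scheme.Hom.stalkMap_comp, CommRingCat.hom_comp]
    refine (RingHom.Flat.respectsIso.cancel_right_isIso _ (κ.stalkMap p)).2 ((hO _).1 ?_)
    rw [← Scheme.Hom.comp_apply, show κ ≫ pullback.snd G.t iU = pullback.snd G.t g₂ ≫ Z₂.ι from
      pullback.lift_snd _ _ _]
    exact hZle (pullback.snd G.t g₂ p).2
  · obtain ⟨p, hp, -⟩ := Scheme.Pullback.exists_preimage_pullback (f := G.t) (g := g₂) (Y.ι y₀)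
      (⟨f₀, hf₀Z⟩ : Z₂.toScheme) (by
        rw [← Scheme.Hom.comp_apply, ← morphismRestrict_ι, Scheme.Hom.comp_apply]
        exact (congrArg U₀.ι hf₀).symm)
    refine ⟨p, ?_⟩
    show (pullback.fst G.t g₂ ≫ G.s) p = x
    rw [Scheme.Hom.comp_apply, hp]
    exact hy₀
  · refine (hfin.preimage (Z₂.ι ≫ i).isEmbedding.injective.injOn).subset ?_
    rintro z ⟨r, hr₁, hr₂⟩
    let y : Y.toScheme := ⟨r, show G.t r ∈ U₀ from hr₂.symm ▸ (i z.1).2⟩
    have hy : q y = (Z₂.ι ≫ i) z := U₀.ι.isOpenEmbedding.injective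
      ((congr($(morphismRestrict_ι G.t U₀) y) : U₀.ι (q y) = G.t r).trans hr₂)
    exact ⟨y, ⟨⟨z.1, hy.symm⟩, hr₁⟩, hy⟩

end Groth.Agent.GrpdSliceSp
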