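import Groth.Agent.GrpdSliceSp.Colim
import Groth.Agent.GrpdSliceSp.Slice
import Groth.Agent.GrpdDense.Section

/-!
# Saturated neighbourhood and slice with flat groupoid and the same quotients
-/

set_option autoImplicit false
set_option backward.isDefEq.respectTransparency false

universe u

open CategoryTheory CategoryTheory.Limits AlgebraicGeometry

namespace Groth.Agent.GrpdSliceSp

open Groth.Agent.GrpdLib Groth.Agent.GrpdDense

variable {S : Scheme.{u}} (G : Grpd.GroupoidScheme S)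

/-- composable points compose -/
theorem exists_comp_point (a b : G.R) (h : G.s a = G.t b) : ∃ r : G.R, G.t r = G.t a ∧ G.s r = G.s b := by
  obtain ⟨z, hz₁, hz₂⟩ := Scheme.Pullback.exists_preimage_pullback (f := G.s) (g := G.t) a b h
  have hlift : pullback.lift (pullback.fst G.s G.t) (pullback.snd G.s G.t) pullback.condition =
      𝟙 (pullback G.s G.t) := pullback.hom_ext (by simp) (by simp)
  have ht := G.comp_t (pullback.fst G.s G.t) (pullback.snd G.s G.t) pullback.condition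
  have hs := G.comp_s (pullback.fst G.s G.t) (pullback.snd G.s G.t) pullback.condition
  rw [hlift, Category.id_comp] at ht hs
  refine ⟨G.c z, ?_, ?_⟩
  · rw [← Scheme.Hom.comp_apply, ht, Scheme.Hom.comp_apply, hz₁]
  · rw [← Scheme.Hom.comp_apply, hs, Scheme.Hom.comp_apply, hz₂]

theorem range_cov_saturated {Z : Scheme.{u}} (g : Z ⟶ G.U) (r : G.R) :
    G.s r ∈ Set.range (QSec.cov G g) ↔ G.t r ∈ Set.range (QSec.cov G g) := by
  have key : ∀ r : G.R, G.t r ∈ Set.range (QSec.cov G g) → G.s r ∈ Set.range (QSec.cov G g) := by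
    rintro r ⟨p, hp⟩
    obtain ⟨r', hr't, hr's⟩ := exists_comp_point G (pullback.fst G.t g p) r hp
    obtain ⟨p', hp', -⟩ := Scheme.Pullback.exists_preimage_pullback (f := G.t) (g := g) r' (pullback.snd G.t g p)
      (hr't.trans (congr($(pullback.condition (f := G.t) (g := g)) p)))
    exact ⟨p', (congrArg G.s hp').trans hr's⟩
  refine ⟨fun h => ?_, key r⟩
  have h' := key (G.i r) (by rwa [← Scheme.Hom.comp_apply, G.i_t])
  rwa [← Scheme.Hom.comp_apply, G.i_s] at h'

/-- properties of the groupoid induced on the slice -/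
theorem rz_property (P : MorphismProperty Scheme.{u}) [P.IsStableUnderBaseChange] {Z : Scheme.{u}}
    (g : Z ⟶ G.U) {W : Scheme.{u}} (m : W ⟶ G.U) [Mono m] (c : pullback G.t g ⟶ W)
    (hc : c ≫ m = QSec.cov G g) (g' : Z ⟶ W) (hg' : g' ≫ m = g) (hP : P c) :
    P (tZ G g) ∧ P (sZ G g) := by
  have hjt : G.j ≫ pullback.fst G.pU G.pU = G.t := pullback.lift_fst _ _ _
  have hjs : G.j ≫ pullback.snd G.pU G.pU = G.s := pullback.lift_snd _ _ _
  let σ : RZ G g ⟶ pullback c g' := pullback.lift (pullback.lift (aZ G g) (tZ G g) (aZ_t G g)) (sZ G g) (by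
    rw [← cancel_mono m, Category.assoc, hc, Category.assoc, hg', QSec.cov, pullback.lift_fst_assoc, aZ_s])
  let p := pullback.fst c g'
  let q := pullback.snd c g'
  have hxy : (p ≫ pullback.fst G.t g) ≫ G.t = (p ≫ pullback.snd G.t g) ≫ g := by
    rw [Category.assoc, pullback.condition, Category.assoc]
  have hq : (p ≫ pullback.fst G.t g) ≫ G.s = q ≫ g := by
    have := congrArg (· ≫ m) (pullback.condition (f := c) (g := g'))
    simpa [p, q, QSec.cov, hc, hg'] using this
  have hpU : (p ≫ pullback.snd G.t g) ≫ g ≫ G.pU = q ≫ g ≫ G.pU := by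
    rw [← Category.assoc, ← hxy, ← Category.assoc q, ← hq]
    simp only [Category.assoc, G.t_over, G.s_over]
  let τ : pullback c g' ⟶ RZ G g := pullback.lift (pullback.lift (p ≫ pullback.snd G.t g) q hpU)
    (p ≫ pullback.fst G.t g) (by
      apply pullback.hom_ext
      · rw [Category.assoc, pullback.lift_fst, pullback.lift_fst_assoc, Category.assoc _ G.j, hjt]
        exact hxy.symm
      · rw [Category.assoc, pullback.lift_snd, pullback.lift_snd_assoc, Category.assoc _ G.j, hjs]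
        exact hq.symm)
  have hστ : σ ≫ τ = 𝟙 _ := by
    apply pullback.hom_ext
    · apply pullback.hom_ext
      · simp [σ, τ, p, q]
      · simp [σ, τ, p, q]
    · simp [σ, τ, p, q]
  haveI : IsIso σ := by
    refine ⟨τ, hστ, ?_⟩
    apply pullback.hom_ext
    · apply pullback.hom_ext
      · simp [σ, τ, p, q]
      · simp [σ, τ, p, q]
    · simp [σ, τ, p, q]
  have hs : P (sZ G g) := by
    rw [show sZ G g = σ ≫ q from (pullback.lift_snd _ _ _).symm]
    exact (MorphismProperty.cancel_left_of_respectsIso P σ q).2 (MorphismProperty.pullback_snd _ _ hP)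
  refine ⟨?_, hs⟩
  have e₁ : (aZ G g ≫ G.i) ≫ G.t = sZ G g ≫ g := by rw [Category.assoc, G.i_t, aZ_s]
  have e₂ : (aZ G g ≫ G.i) ≫ G.s = tZ G g ≫ g := by rw [Category.assoc, G.i_s, aZ_t]
  let φ : RZ G g ⟶ RZ G g := pullback.lift (pullback.lift (sZ G g) (tZ G g) (by
      rw [← Category.assoc, ← e₁, ← Category.assoc (tZ G g), ← e₂]
      simp only [Category.assoc, G.t_over, G.s_over]))
    (aZ G g ≫ G.i) (by
      apply pullback.hom_ext
      · rw [Category.assoc, pullback.lift_fst, pullback.lift_fst_assoc, Category.assoc _ G.j, hjt]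
        exact e₁.symm
      · rw [Category.assoc, pullback.lift_snd, pullback.lift_snd_assoc, Category.assoc _ G.j, hjs]
        exact e₂.symm)
  have hφφ : φ ≫ φ = 𝟙 _ := by
    apply pullback.hom_ext
    · apply pullback.hom_ext
      · simp [φ]
      · simp [φ]
    · simp [φ, GrpdLib.i_i]
  haveI : IsIso φ := ⟨φ, hφφ, hφφ⟩
  rw [show tZ G g = φ ≫ sZ G g by simp [φ]]
  exact (MorphismProperty.cancel_left_of_respectsIso P φ _).2 hs

/-- the slice -/
theorem exists_slice_open [LocallyOfFiniteType G.pU] [QuasiSeparated G.pU]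
    [Flat G.s] [LocallyOfFinitePresentation G.s] [QuasiCompact G.s] [QuasiSeparated G.s]
    [Flat G.t] [LocallyOfFinitePresentation G.t] [QuasiCompact G.t] [QuasiSeparated G.t]
    (x : G.U) (hx : closure ({x} : Set G.U) ∩ G.pU ⁻¹' {G.pU x} = {x}) :
    ∃ (V : G.U.Opens) (Z : Scheme.{u}) (g : Z ⟶ G.U) (ιV : Z ⟶ V.toScheme)
      (c : pullback G.t g ⟶ V.toScheme),
      (G.s ⁻¹ᵁ V = G.t ⁻¹ᵁ V) ∧ x ∈ V ∧ IsAffine Z ∧ IsImmersion g ∧ LocallyOfFinitePresentation g ∧
      ιV ≫ V.ι = g ∧ c ≫ V.ι = QSec.cov G g ∧ Flat c ∧ Surjective c ∧ LocallyOfFinitePresentation c ∧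
      QuasiCompact c ∧ QuasiSeparated c ∧
      {z : Z | ∃ r : G.R, G.s r = x ∧ G.t r = g z}.Finite := by
  obtain ⟨T, hT, hxT, -⟩ :=
    exists_isAffineOpen_mem_and_subset (X := S) (x := G.pU x) (U := ⊤) trivial
  let W : G.U.Opens := G.pU ⁻¹ᵁ T
  have hW : G.t ⁻¹ᵁ W = G.s ⁻¹ᵁ W := by
    rw [← Scheme.Hom.comp_preimage, ← Scheme.Hom.comp_preimage, G.t_over, G.s_over]
  let H := restrict G W hW.symm
  haveI : Flat H.s := IsZariskiLocalAtTarget.restrict ‹Flat G.s› W
  haveI : LocallyOfFinitePresentation H.s := IsZariskiLocalAtTarget.restrict ‹LocallyOfFinitePresentation G.s› W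
  haveI : QuasiCompact H.s := IsZariskiLocalAtTarget.restrict ‹QuasiCompact G.s› W
  haveI : QuasiSeparated H.s := IsZariskiLocalAtTarget.restrict ‹QuasiSeparated G.s› W
  haveI : LocallyOfFiniteType H.pU := inferInstanceAs (LocallyOfFiniteType (W.ι ≫ G.pU))
  haveI : IsAffine T.toScheme := hT
  haveI : QuasiSeparated (G.pU ∣_ T) := IsZariskiLocalAtTarget.restrict ‹QuasiSeparated G.pU› T
  haveI : QuasiSeparatedSpace H.U := quasiSeparatedSpace_of_quasiSeparated (G.pU ∣_ T)
  obtain ⟨Z, gH, hZ, hgi, hgl, hflat, hlfp, hqc, hqs, ⟨p₀, hp₀⟩, hfin⟩ :=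
    exists_flat_slice H (⟨x, hxT⟩ : W.toScheme) (fun x' hx' hp => by
      change ↥W.toScheme at x'
      refine Subtype.ext (hx.le ⟨?_, hp⟩)
      exact map_mem_closure W.ι.continuous hx' (fun b hb => by rw [Set.mem_singleton_iff.1 hb]; rfl))
  change Z ⟶ W.toScheme at gH
  haveI := hgi
  haveI := hgl
  let g : Z ⟶ G.U := gH ≫ W.ι
  obtain ⟨κ, hκi, hκ, hrange⟩ := exists_cov_restrict G W hW gH
  haveI : IsIso κ := by
    have hsurj : Surjective κ := ⟨fun p => by
      have : p ∈ κ.opensRange := by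
        rw [hrange]
        show G.s (pullback.fst G.t g p) ∈ W
        have h1 : G.t (pullback.fst G.t g p) ∈ W := by
          rw [← Scheme.Hom.comp_apply, pullback.condition, Scheme.Hom.comp_apply]
          exact (gH (pullback.snd G.t g p)).2
        exact (hW.le h1 : pullback.fst G.t g p ∈ G.s ⁻¹ᵁ W)
      exact this⟩
    haveI : Epi κ.base := (TopCat.epi_iff_surjective _).2 κ.surjective
    exact IsOpenImmersion.isIso κ
  let cW : pullback G.t g ⟶ W.toScheme := inv κ ≫ QSec.cov H gH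
  have hcW : cW ≫ W.ι = QSec.cov G g := by
    rw [Category.assoc, ← hκ, IsIso.inv_hom_id_assoc]
  haveI : Flat cW := inferInstanceAs (Flat (inv κ ≫ QSec.cov H gH))
  haveI : LocallyOfFinitePresentation cW :=
    inferInstanceAs (LocallyOfFinitePresentation (inv κ ≫ QSec.cov H gH))
  haveI : QuasiCompact cW := inferInstanceAs (QuasiCompact (inv κ ≫ QSec.cov H gH))
  haveI : QuasiSeparated cW := inferInstanceAs (QuasiSeparated (inv κ ≫ QSec.cov H gH))
  haveI : Flat (QSec.cov G g) := hcW ▸ inferInstance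
  haveI : LocallyOfFinitePresentation (QSec.cov G g) := hcW ▸ inferInstance
  let V : G.U.Opens := ⟨Set.range (QSec.cov G g), (QSec.cov G g).isOpenMap.isOpen_range⟩
  have hVW : V ≤ W := by
    rintro _ ⟨p, rfl⟩
    rw [← hcW]
    exact (cW p).2
  let c : pullback G.t g ⟶ V.toScheme :=
    IsOpenImmersion.lift V.ι (QSec.cov G g) (by rw [Scheme.Opens.range_ι]; rfl)
  have hc : c ≫ V.ι = QSec.cov G g := IsOpenImmersion.lift_fac _ _ _
  have hcc : c ≫ G.U.homOfLE hVW = cW := by
    rw [← cancel_mono W.ι, Category.assoc, Scheme.homOfLE_ι, hc, hcW]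
  have hpb : IsPullback (𝟙 (pullback G.t g)) c (QSec.cov G g) V.ι :=
    isPullback_of_range_eq _ V (𝟙 _) c (by rw [Category.id_comp, hc]) (by
      apply TopologicalSpace.Opens.ext
      ext p
      exact ⟨fun _ => ⟨p, rfl⟩, fun _ => ⟨p, rfl⟩⟩)
  haveI : QuasiCompact (c ≫ G.U.homOfLE hVW) := hcc.symm ▸ inferInstance
  haveI : QuasiSeparated (c ≫ G.U.homOfLE hVW) := hcc.symm ▸ inferInstance
  have hsat : G.s ⁻¹ᵁ V = G.t ⁻¹ᵁ V := by
    apply TopologicalSpace.Opens.ext
    ext r
    exact range_cov_saturated G g r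
  have hgV : Set.range g ⊆ (V : Set G.U) := by
    rintro _ ⟨z, rfl⟩
    obtain ⟨p, hp₁, -⟩ := Scheme.Pullback.exists_preimage_pullback (f := G.t) (g := g) (G.e (g z)) z
      (by rw [← Scheme.Hom.comp_apply, G.e_t]; rfl)
    refine ⟨p, ?_⟩
    show G.s (pullback.fst G.t g p) = g z
    rw [hp₁, ← Scheme.Hom.comp_apply, G.e_s]; rfl
  refine ⟨V, Z, g, IsOpenImmersion.lift V.ι g (by rw [Scheme.Opens.range_ι]; exact hgV), c, hsat,
    ⟨κ p₀, ?_⟩, hZ, inferInstanceAs (IsImmersion (gH ≫ W.ι)),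
    inferInstanceAs (LocallyOfFinitePresentation (gH ≫ W.ι)), IsOpenImmersion.lift_fac _ _ _, hc,
    MorphismProperty.of_isPullback hpb ‹Flat (QSec.cov G g)›,
    ⟨fun ⟨_, p, hp⟩ => ⟨p, Subtype.ext ((congr($hc p) : V.ι (c p) = _).trans hp)⟩⟩,
    MorphismProperty.of_isPullback hpb ‹LocallyOfFinitePresentation (QSec.cov G g)›,
    QuasiCompact.of_comp c (G.U.homOfLE hVW), QuasiSeparated.of_comp c (G.U.homOfLE hVW), ?_⟩
  · exact (congr($hκ p₀) : QSec.cov G g (κ p₀) = W.ι (QSec.cov H gH p₀)).trans (congrArg W.ι hp₀)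
  · refine hfin.subset ?_
    rintro z ⟨r, hr₁, hr₂⟩
    let r' : (G.s ⁻¹ᵁ W).toScheme := ⟨r, show G.s r ∈ W from hr₁.symm ▸ hxT⟩
    exact ⟨r', W.ι.isOpenEmbedding.injective ((congr($(rS_ι G W) r') : W.ι (rS G W r') = G.s r).trans hr₁),
      W.ι.isOpenEmbedding.injective
        ((congr($(rT_ι G W hW.symm) r') : W.ι (rT G W hW.symm r') = G.t r).trans hr₂)⟩

end Groth.Agent.GrpdSliceSp
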