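import Groth.Agent.Pinch.Basic
import Mathlib.AlgebraicGeometry.Sites.Fpqc
import Mathlib

/-!
# Flat surjective morphisms locally of finite presentation are effective in sheafed spaces
-/

set_option autoImplicit false
set_option backward.isDefEq.respectTransparency false

universe u

open CategoryTheory Limits AlgebraicGeometry TopologicalSpace Opposite

namespace Groth.Agent.GrpdSliceSp

variable {P V : Scheme.{u}}

/-- the classifying map of a global section -/
noncomputable def secMap {X : Scheme.{u}} (a : Γ(X, ⊤)) :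
    X ⟶ Spec (CommRingCat.of (MvPolynomial PUnit.{u + 1} (ULift.{u} ℤ))) :=
  X.toSpecΓ ≫ Spec.map (CommRingCat.ofHom
    (MvPolynomial.eval₂Hom ((Int.castRingHom Γ(X, ⊤)).comp ULift.ringEquiv.toRingHom) fun _ => a))

lemma secMap_appTop {X : Scheme.{u}} (a : Γ(X, ⊤)) :
    (secMap a).appTop.hom ((Scheme.ΓSpecIso _).inv.hom (MvPolynomial.X PUnit.unit)) = a := by
  simp [secMap]

lemma comp_secMap {X Y : Scheme.{u}} (f : X ⟶ Y) (a : Γ(Y, ⊤)) :
    f ≫ secMap a = secMap (f.appTop.hom a) := by
  rw [secMap, secMap, Scheme.toSpecΓ_naturality_assoc, ← Spec.map_comp]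
  congr 2
  refine CommRingCat.hom_ext (MvPolynomial.ringHom_ext (fun n => ?_) fun i => ?_)
  · simp
  · simp

lemma secMap_injective {X : Scheme.{u}} : Function.Injective (secMap (X := X)) := fun a b h => by
  rw [← secMap_appTop a, h, secMap_appTop]

/-- invariant global functions descend uniquely -/
lemma exists_section_of_cover (c : P ⟶ V) [Flat c] [Surjective c] [LocallyOfFinitePresentation c]
    (a : Γ(P, ⊤)) (h : (pullback.fst c c).appTop.hom a = (pullback.snd c c).appTop.hom a) :
    ∃! r : Γ(V, ⊤), c.appTop.hom r = a := by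
  have hh : ∀ {T : Scheme.{u}} (g₁ g₂ : T ⟶ P), g₁ ≫ c = g₂ ≫ c → g₁ ≫ secMap a = g₂ ≫ secMap a := by
    intro T g₁ g₂ he
    have e : pullback.fst c c ≫ secMap a = pullback.snd c c ≫ secMap a := by
      rw [comp_secMap, comp_secMap, h]
    have := congrArg (pullback.lift g₁ g₂ he ≫ ·) e
    simpa using this
  let d := EffectiveEpi.desc c (secMap a) hh
  have hd : c ≫ d = secMap a := EffectiveEpi.fac c (secMap a) hh
  refine ⟨d.appTop.hom ((Scheme.ΓSpecIso _).inv.hom (MvPolynomial.X PUnit.unit)), ?_, fun r hr => ?_⟩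
  · have := congrArg (fun f => (Scheme.Hom.appTop f).hom
      ((Scheme.ΓSpecIso _).inv.hom (MvPolynomial.X PUnit.unit))) hd
    rw [Scheme.Hom.comp_appTop] at this
    exact this.trans (secMap_appTop a)
  · have h1 : secMap r = d := by
      rw [← cancel_epi c, comp_secMap, hr, hd]
    rw [← h1, secMap_appTop]

lemma secAt_cover (c : P ⟶ V) [Flat c] [Surjective c] [LocallyOfFinitePresentation c] (U : V.Opens) :
    Pinch.SecAt (pullback.condition (f := c) (g := c)) U := by
  let W := c ⁻¹ᵁ U
  let d : W.toScheme ⟶ U.toScheme := c ∣_ U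
  haveI : Flat d := IsZariskiLocalAtTarget.restrict ‹Flat c› U
  haveI : Surjective d := IsZariskiLocalAtTarget.restrict ‹Surjective c› U
  haveI : LocallyOfFinitePresentation d := IsZariskiLocalAtTarget.restrict ‹_› U
  let μ : pullback d d ⟶ pullback c c :=
    pullback.map d d c c W.ι W.ι U.ι (morphismRestrict_ι c U) (morphismRestrict_ι c U)
  have hd : ∀ r : Γ(V, U), d.appTop.hom (U.topIso.inv.hom r) = W.topIso.inv.hom ((c.app U).hom r) := by
    intro r
    have : U.topIso.inv ≫ d.appTop = c.app U ≫ W.topIso.inv := by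
      show _ ≫ (c ∣_ U).appTop = _
      rw [← Scheme.Hom.resLE_eq_morphismRestrict, Scheme.Hom.appTop, Scheme.Hom.resLE_app_top,
        Scheme.Hom.appLE_eq_app, Iso.inv_hom_id_assoc]
    exact ConcreteCategory.congr_hom this r
  have hinv : ∀ s : Γ(P, W),
      Pinch.Compat (pullback.condition (f := c) (g := c)) U s s →
      (pullback.fst d d).appTop.hom (W.topIso.inv.hom s) = (pullback.snd d d).appTop.hom (W.topIso.inv.hom s) := by
    intro s hs
    have e₁ : pullback.fst d d ≫ W.ι = μ ≫ pullback.fst c c := (pullback.lift_fst _ _ _).symm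
    have e₂ : pullback.snd d d ≫ W.ι = μ ≫ pullback.snd c c := (pullback.lift_snd _ _ _).symm
    let O := pullback.fst c c ⁻¹ᵁ W
    have hO : O ≤ pullback.snd c c ⁻¹ᵁ W := (Pinch.preimage_eq pullback.condition U).le
    have hs' : (pullback.fst c c).appLE W O le_rfl s = (pullback.snd c c).appLE W O hO s := by
      unfold Pinch.Compat at hs
      rw [Scheme.Hom.appLE_eq_app]
      simp only [Scheme.Hom.appLE, CommRingCat.comp_apply]
      exact hs
    have hμ : (⊤ : (pullback d d).Opens) ≤ μ ⁻¹ᵁ O := fun x _ => by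
      show (μ ≫ pullback.fst c c) x ∈ W
      rw [← e₁]
      exact (pullback.fst d d x).2
    have key : ∀ (g : pullback d d ⟶ W.toScheme) (π : pullback c c ⟶ P) (hπ : O ≤ π ⁻¹ᵁ W),
        g ≫ W.ι = μ ≫ π → g.appTop.hom (W.topIso.inv.hom s) = μ.appLE O ⊤ hμ (π.appLE W O hπ s) := by
      intro g π hπ he
      have h1 : π.appLE W O hπ ≫ μ.appLE O ⊤ hμ = W.topIso.inv ≫ g.appTop := by
        rw [Scheme.Hom.appLE_comp_appLE]
        have h2 : (g ≫ W.ι).appLE W ⊤ (fun x _ => (g x).2) = W.topIso.inv ≫ g.appTop := by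
          have hι : W.ι.appLE W ⊤ (fun x _ => x.2) = W.topIso.inv := by
            simp [Scheme.Opens.ι_appLE, Scheme.Opens.topIso]
            rfl
          rw [← Scheme.Hom.appLE_comp_appLE g W.ι W ⊤ ⊤ (fun x _ => x.2) (fun _ _ => trivial), hι]
          congr 1
          exact g.appLE_eq_app
        rw [← h2]
        simp only [he]
      exact (ConcreteCategory.congr_hom h1 s).symm
    rw [key _ _ le_rfl e₁, key _ _ hO e₂, hs']
  refine ⟨fun r r' h₁ _ => ?_, fun s t hst => ?_⟩
  · have hinj : W.topIso.inv.hom ((c.app U).hom r) = W.topIso.inv.hom ((c.app U).hom r') := by rw [h₁]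
    rw [← hd, ← hd] at hinj
    obtain ⟨x, -, hu⟩ := exists_section_of_cover d _
      (hinv _ (Pinch.compat_app (pullback.condition (f := c) (g := c)) U r))
    have e := (hu (U.topIso.inv.hom r) (hd r)).trans (hu (U.topIso.inv.hom r') (hinj.symm.trans (hd r))).symm
    have := congrArg (ConcreteCategory.hom U.topIso.hom) e
    exact (U.topIso.inv_hom_id_apply r).symm.trans (this.trans (U.topIso.inv_hom_id_apply r'))
  · have hst' : s = t := by
      let δ : P ⟶ pullback c c := pullback.lift (𝟙 P) (𝟙 P) rfl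
      have hW : W ≤ δ ⁻¹ᵁ (pullback.fst c c ⁻¹ᵁ W) := by
        rw [← Scheme.Hom.comp_preimage, pullback.lift_fst]; rfl
      have hW' : pullback.fst c c ⁻¹ᵁ W ≤ pullback.snd c c ⁻¹ᵁ W :=
        (Pinch.preimage_eq pullback.condition U).le
      have hs' : (pullback.fst c c).appLE W _ le_rfl s = (pullback.snd c c).appLE W _ hW' t := by
        unfold Pinch.Compat at hst
        rw [Scheme.Hom.appLE_eq_app]
        simp only [Scheme.Hom.appLE, CommRingCat.comp_apply]
        exact hst
      have := congrArg (fun z => δ.appLE _ W hW z) hs'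
      simp only [← CommRingCat.comp_apply, Scheme.Hom.appLE_comp_appLE, δ, pullback.lift_fst,
        pullback.lift_snd] at this
      simp [Scheme.Hom.appLE] at this
      exact (ConcreteCategory.congr_hom (P.presheaf.map_id _) s).symm.trans
        (this.trans (ConcreteCategory.congr_hom (P.presheaf.map_id _) t))
    subst hst'
    obtain ⟨x, hx, -⟩ := exists_section_of_cover d _ (hinv s hst)
    have h1 : W.topIso.inv.hom ((c.app U).hom (U.topIso.hom.hom x)) = W.topIso.inv.hom s :=
      (hd _).symm.trans ((congrArg d.appTop.hom (U.topIso.hom_inv_id_apply x)).trans hx)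
    have h2 := congrArg (ConcreteCategory.hom W.topIso.hom) h1
    exact ⟨U.topIso.hom.hom x,
      (W.topIso.inv_hom_id_apply _).symm.trans (h2.trans (W.topIso.inv_hom_id_apply s)),
      (W.topIso.inv_hom_id_apply _).symm.trans (h2.trans (W.topIso.inv_hom_id_apply s))⟩

lemma isPushout_base (c : P ⟶ V) [Flat c] [Surjective c] [LocallyOfFinitePresentation c] :
    IsPushout (pullback.fst c c).base (pullback.snd c c).base c.base c.base := by
  have hq : Topology.IsQuotientMap c.base :=
    c.isOpenMap.isQuotientMap c.continuous c.surjective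
  have hw : (pullback.fst c c).base ≫ c.base = (pullback.snd c c).base ≫ c.base :=
    congrArg (fun f : pullback c c ⟶ V => f.base) pullback.condition
  let δ : P ⟶ pullback c c := pullback.lift (𝟙 P) (𝟙 P) rfl
  have hlr : ∀ s : PushoutCocone (pullback.fst c c).base (pullback.snd c c).base, s.inl = s.inr := fun s => by
    have e₁ : δ.base ≫ (pullback.fst c c).base = 𝟙 _ :=
      congrArg (fun f : P ⟶ P => f.base) (pullback.lift_fst (𝟙 P) (𝟙 P) rfl)
    have e₂ : δ.base ≫ (pullback.snd c c).base = 𝟙 _ :=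
      congrArg (fun f : P ⟶ P => f.base) (pullback.lift_snd (𝟙 P) (𝟙 P) rfl)
    have := congrArg (δ.base ≫ ·) s.condition
    simpa [reassoc_of% e₁, reassoc_of% e₂] using this
  have hf : ∀ s : PushoutCocone (pullback.fst c c).base (pullback.snd c c).base,
      Function.FactorsThrough s.inl.hom c.base := fun s x y hxy => by
    obtain ⟨z, h₁, h₂⟩ := Scheme.Pullback.exists_preimage_pullback (f := c) (g := c) x y hxy
    have := ConcreteCategory.congr_hom s.condition z
    simp only [TopCat.hom_comp, ContinuousMap.comp_apply] at this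
    rw [h₁, h₂] at this
    rw [this, hlr s]
  refine IsPushout.of_isColimit' ⟨hw⟩ (PushoutCocone.IsColimit.mk hw
    (fun s => TopCat.ofHom (hq.lift s.inl.hom (hf s))) (fun s => ?_) (fun s => ?_) fun s m h₁ _ => ?_)
  · exact TopCat.hom_ext (hq.lift_comp s.inl.hom (hf s))
  · exact (TopCat.hom_ext (hq.lift_comp s.inl.hom (hf s))).trans (hlr s)
  · refine TopCat.hom_ext (ContinuousMap.ext fun v => ?_)
    obtain ⟨x, rfl⟩ := c.surjective v
    exact (ConcreteCategory.congr_hom h₁ x).trans (ContinuousMap.congr_fun (hq.lift_comp s.inl.hom (hf s)) x).symm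

theorem isPinch_cover (c : P ⟶ V) [Flat c] [Surjective c] [LocallyOfFinitePresentation c] :
    Pinch.IsPinch (pullback.fst c c) (pullback.snd c c) c c :=
  Pinch.isPinch_of_secAt pullback.condition (isPushout_base c) (secAt_cover c)

/-- descent of maps into sheafed spaces -/
theorem exists_sf_desc (c : P ⟶ V) [Flat c] [Surjective c] [LocallyOfFinitePresentation c]
    {N : SheafedSpace CommRingCat.{u}} (F : Pinch.SF.obj P ⟶ N)
    (h : Pinch.SF.map (pullback.fst c c) ≫ F = Pinch.SF.map (pullback.snd c c) ≫ F) :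
    ∃ g : Pinch.SF.obj V ⟶ N, Pinch.SF.map c ≫ g = F :=
  ⟨(isPinch_cover c).desc F F h, IsPushout.inl_desc _ _ _ _⟩

theorem sf_hom_ext (c : P ⟶ V) [Flat c] [Surjective c] [LocallyOfFinitePresentation c]
    {N : SheafedSpace CommRingCat.{u}} {g₁ g₂ : Pinch.SF.obj V ⟶ N}
    (h : Pinch.SF.map c ≫ g₁ = Pinch.SF.map c ≫ g₂) : g₁ = g₂ :=
  (isPinch_cover c).hom_ext h h

end Groth.Agent.GrpdSliceSp
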